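import Groth.Prelude.Def_CGrpSh2
import Groth.Agent.L08.DoubleDual.Slice
import Groth.Agent.L27.FppfCmp.LocExact

/-! The dual `𝓗om(-, M)` of abelian sheaves on a big site: left exactness, right exactness under
vanishing of `𝓔xt¹`, and the five lemma for double duality maps. -/

universe u

open CategoryTheory CategoryTheory.Limits AlgebraicGeometry Opposite

set_option autoImplicit false
set_option backward.defeqAttrib.useBackward true
set_option backward.isDefEq.respectTransparency false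
set_option linter.style.haveILetI false

namespace Groth.L08.DoubleDual

universe v₁ v₂ u₁ u₂

/-- Vanishing of the first right derived functor, read on an injective resolution. -/
theorem exact_of_rightDerived {C : Type u₁} [Category.{v₁} C] [Abelian C] [HasInjectiveResolutions C]
    {D : Type u₂} [Category.{v₂} D] [Abelian D] (F : C ⥤ D) [F.Additive] {X : C}
    (R : InjectiveResolution X) (G : C ⥤ D) (e : G = F.rightDerived 1) (h : IsZero (G.obj X)) :
    (ShortComplex.mk (F.map (R.cocomplex.d 0 1)) (F.map (R.cocomplex.d 1 2))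
      (by rw [← F.map_comp, HomologicalComplex.d_comp_d, F.map_zero])).Exact := by
  subst e
  have hz := h.of_iso (R.isoRightDerivedObj F 1).symm
  have hex := (HomologicalComplex.exactAt_iff_isZero_homology _ _).2 hz
  rw [HomologicalComplex.exactAt_iff' _ 0 1 2 (by simp) (by simp)] at hex
  exact hex

variable {K : Precoverage Scheme.{u}} {S : Scheme.{u}}

local notation "J" => QuotSh.J K S
local notation "res" => GrothendieckTopology.overPullback (QuotSh.J K S) AddCommGrpCat

/-- The dual of a morphism. -/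
noncomputable abbrev dMap (M : BigSite.Ab K S) {A B : BigSite.Ab K S} (f : A ⟶ B) :
    HomSh.homSh J B M ⟶ HomSh.homSh J A M :=
  HomSh.homShMap J f (𝟙 M)

theorem dMap_app (M : BigSite.Ab K S) {A B : BigSite.Ab K S} (f : A ⟶ B) (X : Over S)
    (φ : B.over X ⟶ M.over X) :
    (dMap M f).hom.app (op X) φ = ((res X).map f ≫ φ : A.over X ⟶ M.over X) := by
  refine (HomSh.homShMap_app_apply J f (𝟙 M) (op X) φ).trans ?_
  rw [CategoryTheory.Functor.map_id]
  exact congrArg _ (Category.comp_id φ)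

/-- Restriction of a local morphism along a map of the base. -/
noncomputable abbrev restr {A B : BigSite.Ab K S} {X Y : Over S} (a : Y ⟶ X) (φ : A.over X ⟶ B.over X) :
    A.over Y ⟶ B.over Y :=
  (HomSh.homSh J A B).obj.map a.op φ

theorem restr_comp_left {A A' B : BigSite.Ab K S} {X Y : Over S} (a : Y ⟶ X) (α : A ⟶ A') (φ : A'.over X ⟶ B.over X) :
    restr a ((res X).map α ≫ φ) = (res Y).map α ≫ restr a φ := rfl

theorem restr_comp_right {A B B' : BigSite.Ab K S} {X Y : Over S} (a : Y ⟶ X) (φ : A.over X ⟶ B.over X) (β : B ⟶ B') :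
    restr a (φ ≫ (res X).map β) = restr a φ ≫ (res Y).map β := rfl

theorem restr_zero {A B : BigSite.Ab K S} {X Y : Over S} (a : Y ⟶ X) :
    restr a (0 : A.over X ⟶ B.over X) = 0 :=
  map_zero ((HomSh.homSh J A B).obj.map a.op).hom

theorem mono_of_app {A B : BigSite.Ab K S} (g : A ⟶ B)
    (h : ∀ X : Over S, Function.Injective (g.hom.app (op X))) : Mono g := by
  haveI : ∀ T, Mono (g.hom.app T) := fun T => (AddCommGrpCat.mono_iff_injective _).2 (h T.unop)
  exact Functor.mono_of_mono_map (sheafToPresheaf J AddCommGrpCat.{u + 1}) (NatTrans.mono_of_mono_app g.hom)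

variable (M : BigSite.Ab K S) (Sh : ShortComplex (BigSite.Ab K S))

theorem dMap_comp : dMap M Sh.g ≫ dMap M Sh.f = 0 := by
  rw [← HomSh.homShMap_comp, Sh.zero, Category.comp_id]
  have h0 := HomSh.homShMap_add_left J (0 : Sh.X₁ ⟶ Sh.X₃) 0 (𝟙 M)
  rw [add_zero] at h0
  simpa using h0

/-- The dual complex. -/
noncomputable abbrev dual : ShortComplex (BigSite.Ab K S) :=
  ShortComplex.mk (dMap M Sh.g) (dMap M Sh.f) (dMap_comp M Sh)

/-- The dual of an epimorphism is a monomorphism. -/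
theorem mono_dMap {A B : BigSite.Ab K S} (g : A ⟶ B) [Epi g] : Mono (dMap M g) := by
  refine mono_of_app _ fun X φ φ' h => ?_
  have h' := ((dMap_app M g X φ).symm.trans h).trans (dMap_app M g X φ')
  exact (cancel_epi ((res X).map g)).1 h'

/-- The dual of a right exact sequence is left exact. -/
theorem exact_dual (h : Sh.Exact) [Epi Sh.g] : (dual M Sh).Exact := by
  refine (Groth.L27.FppfCmp.exact_iff_locally _).2 fun X φ hφ => ⟨⊤, (J).top_mem X, fun X' a _ => ?_⟩
  have hφ' : (res X).map Sh.f ≫ φ = 0 := (dMap_app M Sh.f X φ).symm.trans hφ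
  haveI : Epi (Sh.map (res X)).g := inferInstanceAs (Epi ((res X).map Sh.g))
  let ψ := (exact_over J X h).desc φ hφ'
  refine ⟨restr a ψ, (dMap_app M Sh.g X' (restr a ψ)).trans ?_⟩
  rw [← restr_comp_left]
  exact congrArg (restr a) ((exact_over J X h).g_desc φ hφ')

/-- If `𝓔xt¹(C, M) = 0` the dual of a short exact sequence `0 → A → B → C → 0` is short exact. -/
theorem epi_dMap (h : Sh.ShortExact) (hExt : IsZero ((HomSh.extSh J Sh.X₃ 1).obj M)) :
    Epi (dMap M Sh.f) := by
  rw [← Sheaf.isLocallySurjective_iff_epi']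
  let R : InjectiveResolution M := (HasInjectiveResolution.out (Z := M)).some
  have hex := exact_of_rightDerived (HomSh.homShFunctor J Sh.X₃) R (HomSh.extSh J Sh.X₃ 1)
    (HomSh.extSh_def J Sh.X₃ 1) hExt
  rw [Groth.L27.FppfCmp.exact_iff_locally] at hex
  let ι : M ⟶ R.cocomplex.X 0 := R.ι.f 0
  refine ⟨fun {X} φ => ?_⟩
  let φ₀ : Sh.X₁.over X ⟶ M.over X := φ
  haveI := injective_overPullback J X (R.cocomplex.X 0)
  haveI : Mono ((res X).map Sh.f) := (shortExact_over J X h).mono_f
  haveI hepi : Epi ((res X).map Sh.g) := (shortExact_over J X h).epi_g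
  let ψ : Sh.X₂.over X ⟶ (R.cocomplex.X 0).over X :=
    Injective.factorThru (φ₀ ≫ (res X).map ι) ((res X).map Sh.f)
  have hψ : (res X).map Sh.f ≫ ψ = φ₀ ≫ (res X).map ι := Injective.comp_factorThru _ _
  have hιd : ι ≫ R.cocomplex.d 0 1 = 0 := R.ι_f_zero_comp_complex_d
  have hkill : (res X).map Sh.f ≫ ψ ≫ (res X).map (R.cocomplex.d 0 1) = 0 := by
    rw [← Category.assoc, hψ, Category.assoc, ← Functor.map_comp, hιd, Functor.map_zero, comp_zero]
  haveI : Epi (Sh.map (res X)).g := hepi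
  let θ : Sh.X₃.over X ⟶ (R.cocomplex.X 1).over X :=
    (shortExact_over J X h).exact.desc (ψ ≫ (res X).map (R.cocomplex.d 0 1)) hkill
  have hθ : (res X).map Sh.g ≫ θ = ψ ≫ (res X).map (R.cocomplex.d 0 1) :=
    (shortExact_over J X h).exact.g_desc _ hkill
  have hθd : θ ≫ (res X).map (R.cocomplex.d 1 2) = 0 := by
    rw [← cancel_epi ((res X).map Sh.g), ← Category.assoc, hθ, Category.assoc, ← Functor.map_comp,
      HomologicalComplex.d_comp_d, Functor.map_zero, comp_zero, comp_zero]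
  obtain ⟨Rs, hRs, hR⟩ := hex X θ (by
    refine (HomSh.homShMap_app_apply J (𝟙 Sh.X₃) (R.cocomplex.d 1 2) (op X) θ).trans ?_
    rw [CategoryTheory.Functor.map_id]
    exact (Category.id_comp _).trans hθd)
  refine (J).superset_covering (fun Y a ha => ?_) hRs
  obtain ⟨θ'', hθ''⟩ := hR a ha
  let θ' : Sh.X₃.over Y ⟶ (R.cocomplex.X 0).over Y := θ''
  have hθ' : θ' ≫ (res Y).map (R.cocomplex.d 0 1) = restr a θ := by
    refine Eq.trans ?_ hθ''
    refine Eq.trans ?_ (HomSh.homShMap_app_apply J (𝟙 Sh.X₃) (R.cocomplex.d 0 1) (op Y) θ').symm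
    rw [CategoryTheory.Functor.map_id]
    exact (Category.id_comp _).symm
  let χ : Sh.X₂.over Y ⟶ (R.cocomplex.X 0).over Y := restr a ψ - (res Y).map Sh.g ≫ θ'
  have hχ : χ ≫ (res Y).map (R.cocomplex.d 0 1) = 0 := by
    rw [Preadditive.sub_comp, Category.assoc, hθ', ← restr_comp_right, ← restr_comp_left, hθ, sub_self]
  let Sι : ShortComplex (BigSite.Ab K S) := ShortComplex.mk ι (R.cocomplex.d 0 1) hιd
  haveI : Mono (Sι.map (res Y)).f := inferInstanceAs (Mono ((res Y).map (R.ι.f 0)))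
  let ρ : Sh.X₂.over Y ⟶ M.over Y := (exact_over J Y (R.exact₀ : Sι.Exact)).lift χ hχ
  have hρ : ρ ≫ (res Y).map ι = χ := (exact_over J Y (R.exact₀ : Sι.Exact)).lift_f χ hχ
  refine ⟨ρ, (dMap_app M Sh.f Y ρ).trans ?_⟩
  change (res Y).map Sh.f ≫ ρ = restr a φ₀
  haveI : Mono ((res Y).map ι) := inferInstanceAs (Mono ((res Y).map (R.ι.f 0)))
  rw [← cancel_mono ((res Y).map ι), Category.assoc, hρ, Preadditive.comp_sub, ← restr_comp_left, hψ,
    ← Category.assoc, ← Functor.map_comp, Sh.zero, Functor.map_zero, zero_comp, sub_zero,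
    ← restr_comp_right]

theorem bidual_natural {A B : BigSite.Ab K S} (f : A ⟶ B) :
    f ≫ HomSh.bidualMap J B M = HomSh.bidualMap J A M ≫ dMap M (dMap M f) := by
  refine Sheaf.hom_ext (NatTrans.ext (funext fun X => AddCommGrpCat.ext fun s => ?_))
  change HomSh.evalSect J (f.hom.app X s) = (dMap M (dMap M f)).hom.app X (HomSh.evalSect J s)
  refine Eq.trans ?_ (dMap_app M (dMap M f) X.unop (HomSh.evalSect J s)).symm
  refine Sheaf.hom_ext (NatTrans.ext (funext fun U => AddCommGrpCat.ext fun φ => ?_))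
  change HomSh.ev J φ (B.obj.map U.unop.hom.op (f.hom.app X s)) =
    HomSh.ev J ((dMap M f).hom.app (op U.unop.left) φ) (A.obj.map U.unop.hom.op s)
  rw [dMap_app]
  refine congrArg (HomSh.ev J φ) ?_
  exact (NatTrans.naturality_apply f.hom U.unop.hom.op s).symm

/-- Five lemma for double duality. -/
theorem isIso_bidual (h : Sh.ShortExact) (hExt : IsZero ((HomSh.extSh J Sh.X₃ 1).obj M))
    (h₁ : IsIso (HomSh.bidualMap J Sh.X₁ M)) (h₃ : IsIso (HomSh.bidualMap J Sh.X₃ M)) :
    IsIso (HomSh.bidualMap J Sh.X₂ M) := by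
  haveI : Epi Sh.g := h.epi_g
  haveI : Epi (dual M Sh).g := epi_dMap M Sh h hExt
  let S₂ := dual M (dual M Sh)
  let φ : Sh ⟶ S₂ := ShortComplex.homMk (HomSh.bidualMap J Sh.X₁ M) (HomSh.bidualMap J Sh.X₂ M)
    (HomSh.bidualMap J Sh.X₃ M) (bidual_natural M Sh.f).symm (bidual_natural M Sh.g).symm
  have hmono : Mono S₂.f := mono_dMap M (dual M Sh).g
  have hepi : Epi S₂.g := by
    have e : Sh.g ≫ φ.τ₃ = φ.τ₂ ≫ S₂.g := φ.comm₂₃.symm
    haveI : IsIso φ.τ₃ := h₃
    haveI : Epi (φ.τ₂ ≫ S₂.g) := e ▸ epi_comp Sh.g φ.τ₃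
    exact epi_of_epi φ.τ₂ S₂.g
  have h₂ : S₂.ShortExact :=
    { exact := exact_dual M (dual M Sh) (exact_dual M Sh h.exact), mono_f := hmono, epi_g := hepi }
  exact ShortComplex.isIso₂_of_shortExact_of_isIso₁₃' φ h h₂ h₁ h₃

end Groth.L08.DoubleDual
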